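import Mathlib
import Cfsg.Agent.Helper19.TCR.Static
import Cfsg.Agent.Helper19.TCR.Static2
import Cfsg.Agent.Helper19.U33P.Chk0
import Cfsg.Agent.Helper19.U33P.ChkT

set_option autoImplicit false
set_option linter.all false
set_option maxRecDepth 1000000
set_option maxHeartbeats 0

namespace Cfsg.Agent.Helper19.U33P

open Cfsg.Agent.Helper19.TCS

theorem okR_all : ∀ p, p < 4 → OKR (p * 400) 400 := by
  intro p hp
  interval_cases p
  · exact okR0
  · exact okR1
  · exact okR2
  · exact okR3

theorem okT_all : ∀ p, p < 1 → OKT (p * 20000) 20000 := by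
  intro p hp
  interval_cases p
  · exact okT0

theorem okAll : ∀ i l, i < 1512 → l < 4 → OKE i l := by
  intro i l hi hl
  have hp : i / 400 < 4 := by omega
  have h1 : i / 400 * 400 ≤ i := Nat.div_mul_le_self i 400
  have h2 : i < i / 400 * 400 + 400 := by omega
  exact okRows_spec (i / 400 * 400) 400 (okR_all (i / 400) hp) i h1 h2 hi l hl

theorem treeAll : ∀ j, 0 < j → j < 1512 → parF j < j := by
  intro j h0 hj
  have hp : j / 20000 < 1 := by omega
  have h1 : j / 20000 * 20000 ≤ j := Nat.div_mul_le_self j 20000
  have h2 : j < j / 20000 * 20000 + 20000 := by omega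
  exact okTree_spec (j / 20000 * 20000) 20000 (okT_all (j / 20000) hp) j h1 h2 h0 hj

theorem rotsF_ok : (List.range 38).all (fun r => rotL.contains (rotsF r)) = true :=
  rots_contains_of_map_eq (by decide +kernel)

theorem rotL_ok : rotL.all (rotOK 4 rels) = true :=
  rotL_all_of_indexed rotL rotIdx (by decide +kernel) (by decide +kernel)


theorem subL_ok : subL.all (subOK 4 subs) = true := by decide +kernel

theorem subsF_ok : ∀ s, (subsF s).2.1 < 4 → subsF s ∈ subL := by
  intro s hs
  unfold subsF at hs ⊢
  by_cases h : s < subL.length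
  · rw [List.getD_eq_getElem _ _ h]; exact List.getElem_mem h
  · rw [List.getD_eq_default _ _ (not_lt.mp h)] at hs
    simp at hs

theorem invF_ok : ∀ l, l < 4 → invF l = invF l := by
  intro l hl
  interval_cases l <;> rfl

/-- the table is closed, for any group with generators `gc` satisfying the relators. -/
theorem closed {G : Type*} [Group G] (H : Subgroup G) (gc : ℕ → G)
    (hinv : ∀ l, l < 4 → gc (invF l) = (gc l)⁻¹)
    (hrels : ∀ w ∈ rels, prodw gc w = 1) (hsubs : ∀ w ∈ subs, prodw gc w ∈ H) :
    Sem 1512 4 invF 38 rotsF subsF H gc ∧ Closed 1512 4 2048 ent parF pletF H gc := by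
  have S : Sem 1512 4 invF 38 rotsF subsF H gc :=
    sem_of_data rels subs rotL subL
      (by intro l hl; interval_cases l <;> decide) hinv rotsF_ok rotL_ok hrels subsF_ok subL_ok hsubs
      (by norm_num)
  exact ⟨S, closed_of_ok S treeAll okAll⟩

end Cfsg.Agent.Helper19.U33P
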